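import Mathlib

/-!
# S2223, R2b: the Heisenberg lemma

`x`, `y` with `x y = ω y x`, `ω` a primitive `r`-th root of unity (`r` an odd prime), `a` maps `x ↦ y ↦ x⁻¹` and
`(a - 1) (a ^ 2 + 1) = 0`: then `r = 3` and `3 dim [V, a ^ 2] = 2 dim V`.
-/

set_option autoImplicit false

namespace Cfsg.Agent.H68.Hall

section Odd

variable {k : Type*} [Field k] {V : Type*} [AddCommGroup V] [Module k V]

/-- a vector of an eigenspace which is in the sum of the other eigenspaces is zero -/
theorem eig_zero (f : Module.End k V) {α : k} {v : V} (hv : f v = α • v)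
    (h : v ∈ ⨆ μ, ⨆ _ : μ ≠ α, Module.End.eigenspace f μ) : v = 0 := by
  have h1 := (Module.End.eigenspaces_iSupIndep f) α
  rw [Submodule.disjoint_def] at h1
  exact h1 v (Module.End.mem_eigenspace_iff.2 hv) h

theorem mem_other (f : Module.End k V) {α μ : k} (hμ : μ ≠ α) {v : V} (hv : f v = μ • v) :
    v ∈ ⨆ μ, ⨆ _ : μ ≠ α, Module.End.eigenspace f μ :=
  Submodule.mem_iSup_of_mem μ (Submodule.mem_iSup_of_mem hμ (Module.End.mem_eigenspace_iff.2 hv))

variable {ω : k} (x y a : V ≃ₗ[k] V)

/-- `y` raises the eigenvalues of `x` -/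
theorem raise (hxy : ∀ v, x (y v) = ω • y (x v)) {μ : k} {v : V} (hv : x v = μ • v) :
    x (y v) = (ω * μ) • y v := by
  rw [hxy, hv, map_smul, smul_smul]

/-- `y⁻¹` lowers the eigenvalues of `x` -/
theorem lower (hω : ω ≠ 0) (hxy : ∀ v, x (y v) = ω • y (x v)) {μ : k} {v : V} (hv : x v = μ • v) :
    x (y.symm v) = (ω⁻¹ * μ) • y.symm v := by
  have h := hxy (y.symm v)
  rw [LinearEquiv.apply_symm_apply, hv] at h
  have h1 : y.symm (μ • v) = ω • x (y.symm v) := by
    rw [h, map_smul, LinearEquiv.symm_apply_apply]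
  rw [mul_smul, ← map_smul, h1, smul_smul, inv_mul_cancel₀ hω, one_smul]

/-- `t = a ^ 2` inverts the eigenvalues of `x` -/
theorem invert (ht : ∀ v, x (a (a (x v))) = a (a v)) {μ : k} (hμ : μ ≠ 0) {v : V}
    (hv : x v = μ • v) : x (a (a v)) = μ⁻¹ • a (a v) := by
  have h := ht v
  rw [hv, map_smul, map_smul, map_smul] at h
  calc x (a (a v)) = μ⁻¹ • (μ • x (a (a v))) := by
        rw [smul_smul, inv_mul_cancel₀ hμ, one_smul]
    _ = μ⁻¹ • a (a v) := by rw [h]

/-- the main relation: `(y + y⁻¹) u = (μ + μ⁻¹) u` for `u = v + t v` -/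
theorem rel (ht : ∀ v, x (a (a (x v))) = a (a v)) (hy : ∀ v, a (x v) = y (a v))
    (ha : ∀ v, a (a (a v)) + a v = a (a v) + v) {μ : k} (hμ : μ ≠ 0) {v : V} (hv : x v = μ • v) :
    y v + y (a (a v)) + (y.symm v + y.symm (a (a v))) = (μ + μ⁻¹) • (v + a (a v)) := by
  have h1 := invert x a ht hμ hv
  have hu : a (v + a (a v)) = v + a (a v) := by
    rw [map_add, add_comm (a v), ha, add_comm]
  have h2 : y (v + a (a v)) = a (x (v + a (a v))) := by
    rw [hy, hu]
  have h3 : y.symm (v + a (a v)) = a (x.symm (v + a (a v))) := by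
    rw [LinearEquiv.symm_apply_eq, ← hy, LinearEquiv.apply_symm_apply, hu]
  have h4 : x.symm v = μ⁻¹ • v := by
    rw [LinearEquiv.symm_apply_eq, map_smul, hv, smul_smul, inv_mul_cancel₀ hμ, one_smul]
  have h5 : x.symm (a (a v)) = μ • a (a v) := by
    rw [LinearEquiv.symm_apply_eq, map_smul, h1, smul_smul, mul_inv_cancel₀ hμ, one_smul]
  calc y v + y (a (a v)) + (y.symm v + y.symm (a (a v)))
      = y (v + a (a v)) + y.symm (v + a (a v)) := by rw [map_add, map_add]
    _ = a (x (v + a (a v)) + x.symm (v + a (a v))) := by rw [h2, h3, ← map_add]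
    _ = a ((μ + μ⁻¹) • (v + a (a v))) := by
      congr 1
      rw [map_add, map_add, hv, h1, h4, h5]
      module
    _ = (μ + μ⁻¹) • (v + a (a v)) := by rw [map_smul, hu]

end Odd

section Main

variable {k : Type*} [Field k] {V : Type*} [AddCommGroup V] [Module k V]

theorem prim {r : ℕ} (hr : r.Prime) {ω : k} (hω : ω ≠ 1) (hωr : ω ^ r = 1) :
    IsPrimitiveRoot ω r := by
  have : Fact r.Prime := ⟨hr⟩
  rw [← orderOf_eq_prime hωr hω]
  exact IsPrimitiveRoot.orderOf ω

/-- the eigenspace for `ω` is not zero -/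
theorem exists_eig [IsAlgClosed k] [FiniteDimensional k V] {r : ℕ} (hr : r.Prime) {ω : k}
    (hω : ω ≠ 1) (hωr : ω ^ r = 1) (x y : V ≃ₗ[k] V)
    (hxr : x ^ r = 1) (hxy : ∀ v, x (y v) = ω • y (x v)) (hV : ∃ v : V, v ≠ 0) :
    ∃ v : V, v ≠ 0 ∧ x v = ω • v := by
  have : Nontrivial V := by
    obtain ⟨v, hv⟩ := hV
    exact ⟨v, 0, hv⟩
  obtain ⟨μ, hμ⟩ := Module.End.exists_eigenvalue (x.toLinearMap : Module.End k V)
  obtain ⟨v, hv⟩ := hμ.exists_hasEigenvector
  have hv0 := hv.2
  have hv1 : x v = μ • v := hv.apply_eq_smul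
  have hpow : ∀ n : ℕ, (x ^ n) v = μ ^ n • v := by
    intro n
    induction n with
    | zero => rw [pow_zero, pow_zero, one_smul]; rfl
    | succ n ih =>
      rw [pow_succ', pow_succ']
      show x ((x ^ n) v) = _
      rw [ih, map_smul, hv1, smul_smul, mul_comm]
  have hμr : μ ^ r = 1 := by
    have h1 := hpow r
    rw [hxr] at h1
    have h2 : (μ ^ r - 1) • v = 0 := by
      rw [sub_smul, ← h1, one_smul]
      exact sub_self v
    rcases smul_eq_zero.1 h2 with h3 | h3
    · exact sub_eq_zero.1 h3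
    · exact absurd h3 hv0
  have hr0 : 0 < r := hr.pos
  have : NeZero r := ⟨hr0.ne'⟩
  obtain ⟨i, hi, rfl⟩ := (prim hr hω hωr).eq_pow_of_pow_eq_one hμr
  have hy : ∀ m : ℕ, (y ^ m) v ≠ 0 ∧ x ((y ^ m) v) = ω ^ (i + m) • (y ^ m) v := by
    intro m
    refine ⟨?_, ?_⟩
    · intro h
      exact hv0 ((y ^ m).map_eq_zero_iff.1 h)
    · induction m with
      | zero => rw [add_zero]; exact hv1
      | succ m ih =>
        rw [pow_succ']
        show x (y ((y ^ m) v)) = _
        rw [raise x y hxy ih, ← pow_succ']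
        rfl
  refine ⟨(y ^ (r + 1 - i)) v, (hy _).1, ?_⟩
  rw [(hy _).2]
  have h1 : i + (r + 1 - i) = r + 1 := by omega
  rw [h1, pow_succ, hωr, one_mul]

/-- `r = 3` -/
theorem r_eq_three [IsAlgClosed k] [FiniteDimensional k V] {r : ℕ} (hr : r.Prime) (hr2 : r ≠ 2)
    {ω : k} (hω : ω ≠ 1) (hωr : ω ^ r = 1)
    (x y a : V ≃ₗ[k] V) (hxr : x ^ r = 1) (hxy : ∀ v, x (y v) = ω • y (x v))
    (ht : ∀ v, x (a (a (x v))) = a (a v)) (hy : ∀ v, a (x v) = y (a v))
    (ha : ∀ v, a (a (a v)) + a v = a (a v) + v) (hV : ∃ v : V, v ≠ 0) : r = 3 := by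
  by_contra hr3
  have h5 : 5 ≤ r := by
    rcases Nat.lt_or_ge r 5 with h | h
    · exfalso
      have h2 := hr.two_le
      have h4 : r = 4 := by omega
      subst h4
      revert hr; decide
    · exact h
  have hp := prim hr hω hωr
  have hω0 : ω ≠ 0 := hp.ne_zero hr.ne_zero
  obtain ⟨v, hv0, hv⟩ := exists_eig hr hω hωr x y hxr hxy hV
  have hne : ∀ n : ℕ, 0 < n → n < r → ω ^ n ≠ 1 := fun n h1 h2 =>
    hp.pow_ne_one_of_pos_of_lt h1.ne' h2
  have hrel := rel x y a ht hy ha hω0 hv
  have hti := invert x a ht hω0 hv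
  have e1 := raise x y hxy hv
  have e2 := lower x y hω0 hxy hv
  have e3 := raise x y hxy hti
  have e4 := lower x y hω0 hxy hti
  have h6 : y v = (ω + ω⁻¹) • v + (ω + ω⁻¹) • a (a v) - y (a (a v)) - y.symm v -
      y.symm (a (a v)) := by
    have h7 : y v + y (a (a v)) + (y.symm v + y.symm (a (a v))) =
        (ω + ω⁻¹) • v + (ω + ω⁻¹) • a (a v) := by rw [hrel, smul_add]
    rw [← h7]; abel
  have h8 : y v = 0 := by
    apply eig_zero (x.toLinearMap : Module.End k V) e1
    have m1 : v ∈ ⨆ μ, ⨆ _ : μ ≠ ω * ω,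
        Module.End.eigenspace (x.toLinearMap : Module.End k V) μ :=
      mem_other _ (μ := ω) (by
        intro h
        apply hne 1 (by norm_num) (by omega)
        rw [pow_one]
        exact (mul_left_cancel₀ hω0 (by rw [mul_one]; exact h.symm))) hv
    have m2 : a (a v) ∈ ⨆ μ, ⨆ _ : μ ≠ ω * ω,
        Module.End.eigenspace (x.toLinearMap : Module.End k V) μ :=
      mem_other _ (μ := ω⁻¹) (by
        intro h
        apply hne 3 (by norm_num) (by omega)
        have : ω * ω⁻¹ = ω * (ω * ω) := by rw [h]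
        rw [mul_inv_cancel₀ hω0] at this
        rw [this]; ring) hti
    have m3 : y (a (a v)) ∈ ⨆ μ, ⨆ _ : μ ≠ ω * ω,
        Module.End.eigenspace (x.toLinearMap : Module.End k V) μ :=
      mem_other _ (μ := ω * ω⁻¹) (by
        rw [mul_inv_cancel₀ hω0]
        intro h
        apply hne 2 (by norm_num) (by omega)
        rw [h]; ring) e3
    have m4 : y.symm v ∈ ⨆ μ, ⨆ _ : μ ≠ ω * ω,
        Module.End.eigenspace (x.toLinearMap : Module.End k V) μ :=
      mem_other _ (μ := ω⁻¹ * ω) (by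
        rw [inv_mul_cancel₀ hω0]
        intro h
        apply hne 2 (by norm_num) (by omega)
        rw [h]; ring) e2
    have m5 : y.symm (a (a v)) ∈ ⨆ μ, ⨆ _ : μ ≠ ω * ω,
        Module.End.eigenspace (x.toLinearMap : Module.End k V) μ :=
      mem_other _ (μ := ω⁻¹ * ω⁻¹) (by
        intro h
        apply hne 4 (by norm_num) (by omega)
        have h9 : ω * ω * (ω⁻¹ * ω⁻¹) = ω * ω * (ω * ω) := by rw [h]
        have h10 : ω * ω * (ω⁻¹ * ω⁻¹) = 1 := by
          field_simp
        rw [h10] at h9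
        rw [h9]; ring) e4
    rw [h6]
    exact Submodule.sub_mem _ (Submodule.sub_mem _ (Submodule.sub_mem _ (Submodule.add_mem _
      (Submodule.smul_mem _ _ m1) (Submodule.smul_mem _ _ m2)) m3) m4) m5
  exact hv0 (y.map_eq_zero_iff.1 h8)

end Main

section Three

variable {k : Type*} [Field k] {V : Type*} [AddCommGroup V] [Module k V]

/-- independence of three eigenvectors -/
theorem indep {ω : k} (hω : ω ≠ 1) (hω3 : ω ^ 3 = 1) (x : V ≃ₗ[k] V) {u v w : V}
    (hu : x u = u) (hv : x v = ω • v) (hw : x w = (ω * ω) • w) (h : u + v + w = 0) :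
    u = 0 ∧ v = 0 ∧ w = 0 := by
  have hω0 : ω ≠ 0 := by
    rintro rfl
    norm_num at hω3
  have h21 : ω * ω ≠ 1 := by
    intro h
    apply hω
    calc ω = ω ^ 3 * ω := by rw [hω3, one_mul]
      _ = (ω * ω) * (ω * ω) := by ring
      _ = 1 := by rw [h, one_mul]
  have h2ω : ω * ω ≠ ω := by
    intro h
    exact hω (mul_left_cancel₀ hω0 (by rw [h, mul_one]))
  have hu' : (x.toLinearMap : Module.End k V) u = (1 : k) • u := by rw [one_smul]; exact hu
  refine ⟨?_, ?_, ?_⟩
  · apply eig_zero (x.toLinearMap : Module.End k V) hu'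
    have e : u = -v - w := by
      rw [eq_sub_iff_add_eq, eq_neg_iff_add_eq_zero, ← h]; abel
    rw [e]
    exact Submodule.sub_mem _ (Submodule.neg_mem _ (mem_other _ hω hv)) (mem_other _ h21 hw)
  · apply eig_zero (x.toLinearMap : Module.End k V) hv
    have e : v = -u - w := by
      rw [eq_sub_iff_add_eq, eq_neg_iff_add_eq_zero, ← h]; abel
    rw [e]
    exact Submodule.sub_mem _ (Submodule.neg_mem _ (mem_other _ hω.symm hu')) (mem_other _ h2ω hw)
  · apply eig_zero (x.toLinearMap : Module.End k V) hw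
    have e : w = -u - v := by
      rw [eq_sub_iff_add_eq, eq_neg_iff_add_eq_zero, ← h]; abel
    rw [e]
    exact Submodule.sub_mem _ (Submodule.neg_mem _ (mem_other _ h21.symm hu'))
      (mem_other _ h2ω.symm hv)

/-- the decomposition -/
theorem decomp {ω : k} (hω : ω ≠ 1) (hω3 : ω ^ 3 = 1) (x : V ≃ₗ[k] V) (hx : x ^ 3 = 1) (v : V) :
    ∃ v0 v1 v2 : V, x v0 = v0 ∧ x v1 = ω • v1 ∧ x v2 = (ω * ω) • v2 ∧ v = v0 + v1 + v2 := by
  have hs : ω * ω + ω + 1 = 0 := by
    have h1 : (ω - 1) * (ω * ω + ω + 1) = 0 := by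
      have : (ω - 1) * (ω * ω + ω + 1) = ω ^ 3 - 1 := by ring
      rw [this, hω3, sub_self]
    rcases mul_eq_zero.1 h1 with h | h
    · exact absurd (sub_eq_zero.1 h) hω
    · exact h
  have h3 : (3 : k) ≠ 0 := by
    intro h
    apply hω
    have h1 : (ω - 1) * (ω - 1) = 0 := by
      have : (ω - 1) * (ω - 1) = ω * ω + ω + 1 - 3 * ω := by ring
      rw [this, hs, h, zero_mul, sub_zero]
    rcases mul_eq_zero.1 h1 with h | h <;> exact sub_eq_zero.1 h
  have hx3 : ∀ v, x (x (x v)) = v := by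
    intro v
    have h1 : (x ^ 3) v = v := by rw [hx]; rfl
    have h2 : (x ^ 3) v = x (x (x v)) := rfl
    rw [← h2, h1]
  have hω4 : ω * ω * ω = 1 := by rw [← hω3]; ring
  refine ⟨(3 : k)⁻¹ • (v + x v + x (x v)), (3 : k)⁻¹ • (v + (ω * ω) • x v + ω • x (x v)),
    (3 : k)⁻¹ • (v + ω • x v + (ω * ω) • x (x v)), ?_, ?_, ?_, ?_⟩
  · rw [map_smul, map_add, map_add, hx3]
    congr 1; abel
  · rw [map_smul, map_add, map_add, map_smul, map_smul, hx3, smul_comm ω]
    congr 1
    rw [smul_add, smul_add, smul_smul, smul_smul, mul_comm ω (ω * ω), hω4, one_smul]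
    abel
  · rw [map_smul, map_add, map_add, map_smul, map_smul, hx3, smul_comm (ω * ω)]
    congr 1
    rw [smul_add, smul_add, smul_smul, smul_smul, hω4, one_smul]
    have : ω * ω * (ω * ω) = ω := by
      calc ω * ω * (ω * ω) = ω * ω * ω * ω := by ring
        _ = ω := by rw [hω4, one_mul]
    rw [this]
    abel
  · rw [← smul_add, ← smul_add]
    have h4 : v + x v + x (x v) + (v + (ω * ω) • x v + ω • x (x v)) +
        (v + ω • x v + (ω * ω) • x (x v)) = (3 : k) • v := by
      have h5 : v + x v + x (x v) + (v + (ω * ω) • x v + ω • x (x v)) +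
        (v + ω • x v + (ω * ω) • x (x v)) = (3 : k) • v + (ω * ω + ω + 1) • x v +
          (ω * ω + ω + 1) • x (x v) := by module
      rw [h5, hs, zero_smul, zero_smul, add_zero, add_zero]
    rw [h4, smul_smul, inv_mul_cancel₀ h3, one_smul]

/-- the dimension of the space in terms of an eigenspace of `x` -/
theorem finrank_three [FiniteDimensional k V] {ω : k} (hω : ω ≠ 1) (hω3 : ω ^ 3 = 1)
    (x y : V ≃ₗ[k] V) (hx : x ^ 3 = 1) (hxy : ∀ v, x (y v) = ω • y (x v)) :
    Module.finrank k V =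
      3 * Module.finrank k (Module.End.eigenspace (x.toLinearMap : Module.End k V) ω) := by
  have hω0 : ω ≠ 0 := by
    rintro rfl
    norm_num at hω3
  have hω4 : ω * (ω * ω) = 1 := by rw [← hω3]; ring
  set X := Module.End.eigenspace (x.toLinearMap : Module.End k V) ω with hX
  have hmem : ∀ {v : V}, v ∈ X ↔ x v = ω • v := Module.End.mem_eigenspace_iff
  let F : (X × X × X) →ₗ[k] V :=
    X.subtype.comp (LinearMap.fst k X (X × X)) +
      (y.toLinearMap.comp (X.subtype.comp ((LinearMap.fst k X X).comp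
        (LinearMap.snd k X (X × X)))) +
       y.toLinearMap.comp (y.toLinearMap.comp (X.subtype.comp ((LinearMap.snd k X X).comp
        (LinearMap.snd k X (X × X))))))
  have hF : ∀ p : X × X × X, F p = (p.1 : V) + (y (p.2.1 : V) + y (y (p.2.2 : V))) := fun p => rfl
  have hbij : Function.Bijective F := by
    constructor
    · rw [injective_iff_map_eq_zero]
      rintro ⟨⟨u, hu⟩, ⟨v, hv⟩, ⟨w, hw⟩⟩ h
      rw [hF] at h
      have h' : u + (y v + y (y w)) = 0 := h
      have hu1 := hmem.1 hu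
      have hv1 := raise x y hxy (hmem.1 hv)
      have hw1 := raise x y hxy (raise x y hxy (hmem.1 hw))
      rw [hω4, one_smul] at hw1
      obtain ⟨h1, h2, h3⟩ := indep hω hω3 x hw1 hu1 hv1 (by rw [← h']; abel)
      have h4 : v = 0 := y.map_eq_zero_iff.1 h3
      have h5 : w = 0 := y.map_eq_zero_iff.1 (y.map_eq_zero_iff.1 h1)
      subst h2 h4 h5
      rfl
    · intro v
      obtain ⟨v0, v1, v2, h0, h1, h2, rfl⟩ := decomp hω hω3 x hx v
      have m2 := lower x y hω0 hxy h2
      have e2 : ω⁻¹ * (ω * ω) = ω := by rw [← mul_assoc, inv_mul_cancel₀ hω0, one_mul]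
      rw [e2] at m2
      have h0' : x v0 = (1 : k) • v0 := by rw [one_smul]; exact h0
      have m0 := lower x y hω0 hxy (lower x y hω0 hxy h0')
      have e0 : ω⁻¹ * (ω⁻¹ * 1) = ω := by
        rw [mul_one, ← mul_inv]
        exact inv_eq_of_mul_eq_one_left hω4
      rw [e0] at m0
      refine ⟨(⟨v1, hmem.2 h1⟩, ⟨y.symm v2, hmem.2 m2⟩, ⟨y.symm (y.symm v0), hmem.2 m0⟩), ?_⟩
      rw [hF]
      show v1 + (y (y.symm v2) + y (y (y.symm (y.symm v0)))) = v0 + v1 + v2
      rw [LinearEquiv.apply_symm_apply, LinearEquiv.apply_symm_apply, LinearEquiv.apply_symm_apply]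
      abel
  rw [← (LinearEquiv.ofBijective F hbij).finrank_eq, Module.finrank_prod, Module.finrank_prod]
  ring

end Three

section Final

variable {k : Type*} [Field k] [IsAlgClosed k] {V : Type*} [AddCommGroup V] [Module k V]
  [FiniteDimensional k V]

/-- R2b -/
theorem heis {r : ℕ} (hr : r.Prime) (hr2 : r ≠ 2) (h2 : (2 : k) ≠ 0) {ω : k} (hω : ω ≠ 1) (hωr : ω ^ r = 1)
    (x y a : V ≃ₗ[k] V) (hxr : x ^ r = 1) (hxy : ∀ v, x (y v) = ω • y (x v)) (h1 : a * x * a⁻¹ = y)
    (h3 : a * y * a⁻¹ = x⁻¹) (ha : ∀ v, a (a (a v)) + a v = a (a v) + v) (hV : ∃ v : V, v ≠ 0) :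
    r = 3 ∧ 3 * Module.finrank k (LinearMap.range ((a * a : V ≃ₗ[k] V).toLinearMap - LinearMap.id)) =
      2 * Module.finrank k V := by
  have hy : ∀ v, a (x v) = y (a v) := by
    intro v
    have h4 : a * x = y * a := by rw [← h1]; group
    exact LinearEquiv.congr_fun h4 v
  have hx' : ∀ v, x (a (y v)) = a v := by
    intro v
    have h4 : x * (a * y) = a := by
      calc x * (a * y) = x * (a * y * a⁻¹) * a := by group
        _ = a := by rw [h3]; group
    exact LinearEquiv.congr_fun h4 v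
  have ht : ∀ v, x (a (a (x v))) = a (a v) := by
    intro v
    rw [hy, hx']
  have hr3 := r_eq_three hr hr2 hω hωr x y a hxr hxy ht hy ha hV
  refine ⟨hr3, ?_⟩
  subst hr3
  have hω0 : ω ≠ 0 := by
    rintro rfl
    norm_num at hωr
  have hω4 : ω * (ω * ω) = 1 := by rw [← hωr]; ring
  have hωi : ω⁻¹ = ω * ω := inv_eq_of_mul_eq_one_right hω4
  have hfr := finrank_three hω hωr x y hxr hxy
  set X := Module.End.eigenspace (x.toLinearMap : Module.End k V) ω with hX
  have hmem : ∀ {v : V}, v ∈ X ↔ x v = ω • v := Module.End.mem_eigenspace_iff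
  set T := (a * a : V ≃ₗ[k] V).toLinearMap - LinearMap.id with hT
  have hTv : ∀ v, T v = a (a v) - v := fun v => rfl
  -- `t ^ 2 = 1`
  have ha4 : ∀ v, a (a (a (a v))) = v := by
    intro v
    have e1 := ha (a v)
    have e2 := ha v
    have e3 : a (a (a (a v))) + a (a v) + (a (a (a v)) + a v) =
        a (a (a v)) + a v + (a (a v) + v) := by rw [e1, e2]
    have e4 : a (a (a (a v))) = v := by
      have : a (a (a (a v))) + (a (a v) + (a (a (a v)) + a v)) =
          v + (a (a v) + (a (a (a v)) + a v)) := by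
        calc a (a (a (a v))) + (a (a v) + (a (a (a v)) + a v)) =
            a (a (a (a v))) + a (a v) + (a (a (a v)) + a v) := by abel
          _ = a (a (a v)) + a v + (a (a v) + v) := e3
          _ = v + (a (a v) + (a (a (a v)) + a v)) := by abel
      exact add_right_cancel this
    exact e4
  -- on the fixed points of `x`, `t = -1`
  have hneg : ∀ v, x v = v → a (a v) = -v := by
    intro v hv
    have hv1 : x v = (1 : k) • v := by rw [one_smul]; exact hv
    have hrel := rel x y a ht hy ha one_ne_zero hv1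
    have hti := invert x a ht one_ne_zero hv1
    rw [inv_one] at hti hrel
    have e1 := raise x y hxy hv1
    have e2 := lower x y hω0 hxy hv1
    have e3 := raise x y hxy hti
    have e4 := lower x y hω0 hxy hti
    rw [mul_one] at e1 e2 e3 e4
    rw [hωi] at e2 e4
    have e5 : x (y v + y (a (a v))) = ω • (y v + y (a (a v))) := by
      rw [map_add, e1, e3, smul_add]
    have e6 : x (y.symm v + y.symm (a (a v))) = (ω * ω) • (y.symm v + y.symm (a (a v))) := by
      rw [map_add, e2, e4, smul_add]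
    have e7 : x (-(((1 : k) + 1) • (v + a (a v)))) = -(((1 : k) + 1) • (v + a (a v))) := by
      rw [map_neg, map_smul, map_add, hv, hti, one_smul]
    obtain ⟨h0, -, -⟩ := indep hω hωr x e7 e5 e6 (by
      rw [add_assoc, hrel]
      abel)
    rw [neg_eq_zero, smul_eq_zero] at h0
    rcases h0 with h0 | h0
    · exfalso
      apply h2
      rw [← h0]; norm_num
    · exact (neg_eq_of_add_eq_zero_right h0).symm
  -- the fixed points of `t`
  have hker : Module.finrank k (LinearMap.ker T) = Module.finrank k X := by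
    let f : X →ₗ[k] LinearMap.ker T :=
      LinearMap.codRestrict (LinearMap.ker T)
        ((LinearMap.id + (a * a : V ≃ₗ[k] V).toLinearMap).comp X.subtype) (by
          rintro ⟨v, hv⟩
          rw [LinearMap.mem_ker]
          show T (v + a (a v)) = 0
          rw [hTv, map_add, map_add, ha4]
          abel)
    have hf : ∀ v : X, ((f v : LinearMap.ker T) : V) = (v : V) + a (a (v : V)) := fun v => rfl
    have hbij : Function.Bijective f := by
      constructor
      · rw [injective_iff_map_eq_zero]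
        rintro ⟨v, hv⟩ h
        have h4 : v + a (a v) = 0 := by
          have := congrArg Subtype.val h
          rw [hf] at this
          exact this
        have hti := invert x a ht hω0 (hmem.1 hv)
        rw [hωi] at hti
        obtain ⟨-, h5, -⟩ := indep hω hωr x (u := 0) (map_zero x) (hmem.1 hv) hti
          (by rw [zero_add, h4])
        exact Subtype.ext h5
      · rintro ⟨v, hv⟩
        rw [LinearMap.mem_ker, hTv, sub_eq_zero] at hv
        obtain ⟨v0, v1, v2, h0, h4, h5, rfl⟩ := decomp hω hωr x hxr v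
        have t0 := hneg v0 h0
        have t1 := invert x a ht hω0 h4
        rw [hωi] at t1
        have t2 := invert x a ht (mul_ne_zero hω0 hω0) h5
        have e2 : (ω * ω)⁻¹ = ω := inv_eq_of_mul_eq_one_left hω4
        rw [e2] at t2
        rw [map_add, map_add, map_add, map_add, t0] at hv
        have e3 : x (-v0 - v0) = -v0 - v0 := by rw [map_sub, map_neg, h0]
        have e4 : x (a (a v2) - v1) = ω • (a (a v2) - v1) := by rw [map_sub, t2, h4, smul_sub]
        have e5 : x (a (a v1) - v2) = (ω * ω) • (a (a v1) - v2) := by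
          rw [map_sub, t1, h5, smul_sub]
        obtain ⟨h6, -, h7⟩ := indep hω hωr x e3 e4 e5 (by
          have : -v0 - v0 + (a (a v2) - v1) + (a (a v1) - v2) =
            -v0 + a (a v1) + a (a v2) - (v0 + v1 + v2) := by abel
          rw [this, hv, sub_self])
        have h8 : v0 = 0 := by
          have h9 : (2 : k) • v0 = 0 := by
            have : (2 : k) • v0 = -(-v0 - v0) := by module
            rw [this, h6, neg_zero]
          rcases smul_eq_zero.1 h9 with h | h
          · exact absurd h h2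
          · exact h
        refine ⟨⟨v1, hmem.2 h4⟩, ?_⟩
        apply Subtype.ext
        rw [hf]
        show v1 + a (a v1) = v0 + v1 + v2
        rw [h8, sub_eq_zero.1 h7, zero_add]
    exact (LinearEquiv.ofBijective f hbij).finrank_eq.symm
  have hrn := LinearMap.finrank_range_add_finrank_ker T
  rw [hker] at hrn
  omega

end Final

end Cfsg.Agent.H68.Hall
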